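import Groth.Agent.ExactConstrLib.Constr
import Groth.Agent.FibAssLib.Fibre
import Groth.Agent.CMFlatLib.Constructible

/-!
# The primes over which all associated points of the fibres avoid a closed set
-/

set_option autoImplicit false
set_option linter.style.haveILetI false
set_option backward.isDefEq.respectTransparency false
set_option maxHeartbeats 800000

universe u

open Matrix Topology

namespace Groth.Agent.AssLocusLib

open ExactConstrLib FibreDepth

variable {A P M : Type u} [CommRing A] [CommRing P] [Algebra A P] [AddCommGroup M] [Module P M] [Module A M]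
  [IsScalarTower A P M]

omit [Algebra A P] in
theorem mem_map_smul_top [Algebra A P] [IsScalarTower A P M] (t : Ideal A) (x : M) :
    x ∈ t.map (algebraMap A P) • (⊤ : Submodule P M) ↔ x ∈ t • (⊤ : Submodule A M) := by
  rw [← Submodule.restrictScalars_mem A, Submodule.restrictScalars_map_smul_eq, Submodule.restrictScalars_top]

variable {b d : ℕ} (ψ : (Fin b → P) →ₗ[P] M) (hψ : Function.Surjective ψ) (W : Matrix (Fin b) (Fin d) P)
  (hW : LinearMap.range W.mulVecLin = LinearMap.ker ψ)

include hψ hW in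
theorem near_iff (r : PrimeSpectrum P) (x : Fin b → P) :
    NearRange A r W x ↔ ∃ s ∉ r.asIdeal, s • ψ x ∈ basePrime A r • (⊤ : Submodule A M) := by
  constructor
  · rintro ⟨s, hs, y, hy⟩
    refine ⟨s, hs, (mem_map_smul_top (P := P) _ _).1 ?_⟩
    have h0 : ψ (W *ᵥ y) = 0 := LinearMap.mem_ker.1 (hW ▸ ⟨y, rfl⟩)
    have h1 : s • ψ x = ψ (s • x - W *ᵥ y) := by rw [map_sub, map_smul, h0, sub_zero]
    rw [h1, pi_eq_sum_univ' (s • x - W *ᵥ y), map_sum]
    refine Submodule.sum_mem _ fun i _ => ?_
    rw [map_smul]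
    exact Submodule.smul_mem_smul (hy i) Submodule.mem_top
  · rintro ⟨s, hs, hx⟩
    have hx' : s • ψ x ∈ (basePr A r • (⊤ : Submodule P (Fin b → P))).map ψ := by
      rw [Submodule.map_smul'', Submodule.map_top, LinearMap.range_eq_top.2 hψ]
      exact (mem_map_smul_top (P := P) _ _).2 hx
    obtain ⟨z, hz, hzx⟩ := hx'
    have hk : s • x - z ∈ LinearMap.range W.mulVecLin := by
      rw [hW, LinearMap.mem_ker, map_sub, map_smul, hzx, sub_self]
    obtain ⟨y, hy⟩ := hk
    refine ⟨s, hs, y, fun i => ?_⟩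
    have : s * x i - (W *ᵥ y) i = z i := by
      rw [show W *ᵥ y = s • x - z from hy]
      simp
    rw [this]
    refine Submodule.smul_induction_on hz (fun a ha v _ => ?_) fun u v hu hv => Ideal.add_mem _ hu hv
    exact Ideal.mul_mem_right _ _ ha

variable {k : ℕ} (j : Fin k → P)

/-- The relation matrix of `k` copies. -/
def blockW : Matrix (Fin (k * b)) (Fin (k * d)) P := Matrix.of fun p q =>
  if (finProdFinEquiv.symm p).1 = (finProdFinEquiv.symm q).1 then
    W (finProdFinEquiv.symm p).2 (finProdFinEquiv.symm q).2 else 0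

/-- Multiplication by the elements of a family, one copy each. -/
def scaleV (b : ℕ) : Matrix (Fin (k * b)) (Fin b) P := Matrix.of fun p i =>
  if (finProdFinEquiv.symm p).2 = i then j (finProdFinEquiv.symm p).1 else 0

omit [Algebra A P] in
theorem blockW_mulVec (y : Fin (k * d) → P) (l : Fin k) (i : Fin b) :
    (blockW W *ᵥ y) (finProdFinEquiv (l, i)) = (W *ᵥ fun q => y (finProdFinEquiv (l, q))) i := by
  simp only [Matrix.mulVec, dotProduct, blockW, Matrix.of_apply, Equiv.symm_apply_apply]
  rw [← finProdFinEquiv.sum_comp, Fintype.sum_prod_type, Finset.sum_eq_single l]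
  · simp
  · intro l' _ hl'
    simp [Ne.symm hl']
  · simp

omit [Algebra A P] in
theorem scaleV_mulVec (x : Fin b → P) (l : Fin k) (i : Fin b) :
    (scaleV j b *ᵥ x) (finProdFinEquiv (l, i)) = j l * x i := by
  simp only [Matrix.mulVec, dotProduct, scaleV, Matrix.of_apply, Equiv.symm_apply_apply, ite_mul, zero_mul,
    Finset.sum_ite_eq, Finset.mem_univ, if_true]

theorem near_block_iff (r : PrimeSpectrum P) (x : Fin b → P) :
    NearRange A r (blockW W (k := k)) (scaleV j b *ᵥ x) ↔ ∀ l, NearRange A r W (j l • x) := by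
  constructor
  · rintro ⟨s, hs, y, hy⟩ l
    refine ⟨s, hs, fun q => y (finProdFinEquiv (l, q)), fun i => ?_⟩
    have := hy (finProdFinEquiv (l, i))
    rwa [blockW_mulVec, scaleV_mulVec] at this
  · intro h
    choose s hs y hy using h
    refine ⟨∏ l, s l, fun hmem => ?_, fun p => (∏ l ∈ Finset.univ.erase (finProdFinEquiv.symm p).1, s l) *
      y (finProdFinEquiv.symm p).1 (finProdFinEquiv.symm p).2, fun p => ?_⟩
    · obtain ⟨l, -, hl⟩ := (r.isPrime.prod_mem_iff).1 hmem
      exact hs l hl
    · obtain ⟨⟨l, i⟩, rfl⟩ := finProdFinEquiv.surjective p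
      rw [scaleV_mulVec, blockW_mulVec]
      simp only [Equiv.symm_apply_apply]
      rw [show (fun q => (∏ l' ∈ Finset.univ.erase l, s l') * y l q) = (∏ l' ∈ Finset.univ.erase l, s l') • y l from rfl,
        Matrix.mulVec_smul, Pi.smul_apply, smul_eq_mul, ← Finset.prod_erase_mul _ _ (Finset.mem_univ l), mul_assoc,
        ← mul_sub]
      exact Ideal.mul_mem_left _ _ (hy l i)

include hψ hW in
theorem exAt_iff (r : PrimeSpectrum P) :
    ExAt A W (scaleV j b) (blockW W (k := k)) r ↔
      ∀ m : M, (∀ l, ∃ s ∉ r.asIdeal, s • j l • m ∈ basePrime A r • (⊤ : Submodule A M)) →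
        ∃ s ∉ r.asIdeal, s • m ∈ basePrime A r • (⊤ : Submodule A M) := by
  simp only [ExAt, near_block_iff, near_iff ψ hψ W hW, map_smul]
  constructor
  · intro h m hm
    obtain ⟨x, rfl⟩ := hψ m
    exact (h x).1 hm
  · intro h x
    refine ⟨h _, fun ⟨s, hs, hx⟩ l => ⟨s, hs, ?_⟩⟩
    rw [← mem_map_smul_top (P := P)] at hx ⊢
    rw [smul_comm]
    exact Submodule.smul_mem _ _ hx

end Groth.Agent.AssLocusLib

namespace Groth.Agent.AssLocusLib

open FibreDepth ExactConstrLib CAlgFib

variable {A B : Type u} [CommRing A] [CommRing B] [Algebra A B] [Algebra.FinitePresentation A B]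
  (M : Type u) [AddCommGroup M] [Module B M] [Module A M] [IsScalarTower A B M] [Module.FinitePresentation B M]

omit [Algebra.FinitePresentation A B] [Module.FinitePresentation B M] in
theorem toFiberMod_zero_iff (t : Ideal A) [t.IsPrime] (n : M) :
    FlatCA.toFiberMod (S := B) t (N := M) n = 0 ↔ ∃ a ∉ t, a • n ∈ t • (⊤ : Submodule A M) := by
  rw [toFiberMod_eq_zero_iff]
  simp only [algebraMap_smul, mem_map_smul_top]

theorem isConstructible_avoid (J : Ideal B) (hJ : J.FG) :
    IsConstructible {t : PrimeSpectrum A | ∀ (Q : Ideal B) [Q.IsPrime], Q.LiesOver t.asIdeal →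
      FlatCA.fiberIdeal t.asIdeal Q ∈ associatedPrimes (t.asIdeal.Fiber B) (FlatCA.fiberMod t.asIdeal B M) →
      ¬ J ≤ Q} := by
  classical
  obtain ⟨m, π, hπ, hker⟩ := Algebra.FinitePresentation.out (R := A) (A := B)
  obtain ⟨k, g, hg⟩ := Submodule.fg_iff_exists_fin_generating_family.1 hJ
  choose jj hjj using fun l => hπ (g l)
  letI : Algebra (MvPolynomial (Fin m) A) B := π.toRingHom.toAlgebra
  letI : Module (MvPolynomial (Fin m) A) M := Module.compHom M π.toRingHom
  haveI : IsScalarTower (MvPolynomial (Fin m) A) B M := .of_algebraMap_smul fun _ _ => rfl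
  haveI : IsScalarTower A (MvPolynomial (Fin m) A) M := .of_algebraMap_smul fun a x => by
    show π (algebraMap A _ a) • x = a • x
    rw [π.commutes, algebraMap_smul]
  haveI : Module.FinitePresentation (MvPolynomial (Fin m) A) B :=
    Module.finitePresentation_of_surjective (Algebra.linearMap (MvPolynomial (Fin m) A) B) hπ (by
      exact hker)
  haveI : Module.FinitePresentation (MvPolynomial (Fin m) A) M := Module.FinitePresentation.trans _ M B
  obtain ⟨b, x, hx⟩ := Module.Finite.exists_fin (R := MvPolynomial (Fin m) A) (M := M)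
  let ψ := Fintype.linearCombination (MvPolynomial (Fin m) A) x
  have hψ : Function.Surjective ψ := LinearMap.range_eq_top.1 (by rw [Fintype.range_linearCombination, hx])
  obtain ⟨d, w, hw⟩ := Submodule.fg_iff_exists_fin_generating_family.1 (Module.FinitePresentation.fg_ker ψ hψ)
  let W : Matrix (Fin b) (Fin d) (MvPolynomial (Fin m) A) := Matrix.of fun i l => w l i
  have hW : LinearMap.range W.mulVecLin = LinearMap.ker ψ := by
    rw [Matrix.range_mulVecLin, ← hw]
    rfl
  let E : Set (PrimeSpectrum (MvPolynomial (Fin m) A)) := {r | ExAt A W (scaleV jj b) (blockW W (k := k)) r}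
  have hE : IsConstructible E := isConstructible_exAt _ _ _
  have hcr := PrimeSpectrum.isConstructible_comap_image
    (f := algebraMap A (MvPolynomial (Fin m) A)) (RingHom.finitePresentation_algebraMap.2 inferInstance) hE.compl
  convert hcr.compl using 1
  ext t
  simp only [Set.mem_compl_iff, Set.mem_image, Set.mem_ofPred_eq, not_exists, not_and, E, exAt_iff ψ hψ W hW]
  have hgl : ∀ l (n : M), jj l • n = g l • n := fun l n => by rw [← hjj l]; rfl
  have hsmul : ∀ (s : MvPolynomial (Fin m) A) (n : M), s • n = π s • n := fun s n => rfl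
  constructor
  · intro hgood r hr hrt
    apply hr
    subst hrt
    intro n hn
    by_contra hcon
    push Not at hcon
    have hker' : RingHom.ker π.toRingHom ≤ r.asIdeal := fun z hz => by_contra fun hzr => hcon z hzr (by
      rw [hsmul, show π z = 0 from hz, zero_smul]; exact zero_mem _)
    let Q : Ideal B := r.asIdeal.map π.toRingHom
    haveI : Q.IsPrime := Ideal.map_isPrime_of_surjective hπ hker'
    have hQ : ∀ s, π s ∈ Q ↔ s ∈ r.asIdeal := fun s => by
      have := congrArg (fun I : Ideal _ => s ∈ I) (Ideal.comap_map_of_surjective' π.toRingHom hπ r.asIdeal)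
      rw [sup_eq_left.2 hker'] at this
      exact this.to_iff
    let t₀ : Ideal A := (PrimeSpectrum.comap (algebraMap A (MvPolynomial (Fin m) A)) r).asIdeal
    have hQt : Q.LiesOver t₀ := ⟨Ideal.ext fun a => by
      show algebraMap A _ a ∈ r.asIdeal ↔ algebraMap A B a ∈ Q
      rw [← hQ, π.commutes]⟩
    haveI := hQt
    haveI : IsNoetherianRing (t₀.Fiber B) := FibAssLib.isNoetherianRing_fiber t₀
    let y := FlatCA.toFiberMod (S := B) t₀ (N := M) n
    obtain ⟨hPp, hPc⟩ := FibAssLib.fiberIdeal_spec t₀ Q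
    have hcol : (⊥ : Submodule (t₀.Fiber B) (FlatCA.fiberMod t₀ B M)).colon {y} ≤ FlatCA.fiberIdeal t₀ Q := by
      intro z hz
      obtain ⟨a, ha, s, has⟩ := exists_factor t₀ z
      refine (Ideal.unit_mul_mem_iff_mem _ (ι_isUnit (S := B) t₀ ha)).1 ?_
      rw [has]
      refine Ideal.mem_map_of_mem _ ?_
      obtain ⟨s, rfl⟩ := hπ s
      rw [hQ]
      by_contra hs
      have h0 : FlatCA.toFiberMod (S := B) t₀ (N := M) (π s • n) = 0 := by
        rw [map_smul, smul_eq, ← has, mul_smul,
          show z • y = 0 from (Submodule.mem_bot _).1 (Submodule.mem_colon_singleton.1 hz), smul_zero]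
      obtain ⟨a', ha', h1⟩ := (toFiberMod_zero_iff M t₀ _).1 h0
      refine hcon (algebraMap A _ a' * s) (fun hm => (r.isPrime.mem_or_mem hm).elim ha' hs) ?_
      rw [mul_smul, algebraMap_smul, hsmul]
      exact h1
    obtain ⟨P', hP', hle⟩ := FibAssLib.exists_assBelow_of_colon_le t₀ M Q y hcol
    haveI := hP'.1.1
    let Q' : Ideal B := P'.comap (ι t₀)
    haveI hQ't : Q'.LiesOver t₀ := FibAssLib.comap_liesOver t₀ P'
    refine hgood Q' hQ't (by rw [FibAssLib.eq_fiberIdeal_of_comap t₀ (P := P') rfl]; exact hP'.1) ?_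
    rw [← hg, Ideal.span_le]
    rintro _ ⟨l, rfl⟩
    obtain ⟨s, hs, hsl⟩ := hn l
    rw [hgl, hsmul, smul_smul] at hsl
    have h0 : ι t₀ (π s * g l) ∈ P' := hle (by
      rw [Submodule.mem_colon_singleton, Submodule.mem_bot, ← smul_eq, ← map_smul, toFiberMod_zero_iff]
      exact ⟨1, (Ideal.ne_top_iff_one t₀).1 (Ideal.IsPrime.ne_top inferInstance), by rw [one_smul]; exact hsl⟩)
    rw [map_mul] at h0
    refine (hP'.1.1.mem_or_mem h0).resolve_left fun h1 => hs ((hQ s).1 ?_)
    rw [← hPc]
    exact hP'.2 h1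
  · intro h Q _ hQt hass hJQ
    haveI := hQt
    let r : PrimeSpectrum (MvPolynomial (Fin m) A) := ⟨Q.comap π.toRingHom, inferInstance⟩
    have hrt : PrimeSpectrum.comap (algebraMap A (MvPolynomial (Fin m) A)) r = t := PrimeSpectrum.ext (by
      show (Q.comap π.toRingHom).comap (algebraMap A _) = t.asIdeal
      rw [Ideal.comap_comap, show π.toRingHom.comp (algebraMap A _) = algebraMap A B from π.comp_algebraMap]
      exact hQt.over.symm)
    refine h r (fun hex => ?_) hrt
    haveI : IsNoetherianRing (t.asIdeal.Fiber B) := FibAssLib.isNoetherianRing_fiber t.asIdeal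
    obtain ⟨hPp, hPc⟩ := FibAssLib.fiberIdeal_spec t.asIdeal Q
    obtain ⟨-, y, hy⟩ := isAssociatedPrime_iff.1 hass
    obtain ⟨a, ha, n, han⟩ := exists_factor_mod t.asIdeal M y
    have hbase : basePrime A r = t.asIdeal := congrArg PrimeSpectrum.asIdeal hrt
    have hkill : ∀ c ∈ Q, ∃ a' ∉ t.asIdeal, a' • c • n ∈ t.asIdeal • (⊤ : Submodule A M) := fun c hc => by
      rw [← toFiberMod_zero_iff (B := B) M, map_smul, ← han, smul_eq, smul_eq, smul_smul, mul_comm, ← smul_smul]
      have : ι t.asIdeal c • y = 0 := by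
        rw [← Submodule.mem_bot (t.asIdeal.Fiber B), ← Submodule.mem_colon_singleton, ← hy]
        exact Ideal.mem_map_of_mem _ hc
      rw [this, smul_zero]
    obtain ⟨s, hs, hsn⟩ := hex n fun l => by
      obtain ⟨a', ha', h'⟩ := hkill (g l) (hJQ (hg ▸ Submodule.subset_span ⟨l, rfl⟩))
      refine ⟨algebraMap A _ a', fun hm => ha' (by rw [← hbase]; exact hm), ?_⟩
      rw [algebraMap_smul, hgl, hbase]
      exact h'
    rw [hbase] at hsn
    have h0 : FlatCA.toFiberMod (S := B) t.asIdeal (N := M) (π s • n) = 0 := (toFiberMod_zero_iff M _ _).2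
      ⟨1, (Ideal.ne_top_iff_one t.asIdeal).1 t.isPrime.ne_top, by rw [one_smul]; exact hsn⟩
    rw [map_smul, ← han, smul_eq, smul_eq, ← mul_smul] at h0
    have hmem : ι t.asIdeal (π s) * ι t.asIdeal (algebraMap A B a) ∈ FlatCA.fiberIdeal t.asIdeal Q := by
      rw [hy, Submodule.mem_colon_singleton, Submodule.mem_bot]
      exact h0
    rcases hPp.mem_or_mem hmem with h1 | h1
    · exact hs (show π s ∈ Q from by rw [← hPc]; exact h1)
    · exact hPp.ne_top (Ideal.eq_top_of_isUnit_mem _ h1 (ι_isUnit (S := B) t.asIdeal ha))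

end Groth.Agent.AssLocusLib
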